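import Mathlib
import Cfsg.Agent.Lib.Helper50.CAI.Defs
import Cfsg.Agent.S0885
import Cfsg.Agent.S0738

/-!
# Project CAI (S2202), package [ELEM]

The centralizers `Cz P` are elementary abelian 2-groups, by the Feit inequality (S0885) and
the structure of Zassenhaus groups with a large two-point stabilizer (S0738).
-/

set_option autoImplicit false

namespace Cfsg.Agent.Lib.Helper82.CAI

open Cfsg.Agent.Lib.Helper50.CAI

universe u

theorem pkgElem (hB : PkgBasic.{u}) : PkgElem.{u} := by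
  intro G _ _ hyp hbti hZ hZas P x hx
  classical
  haveI : Fintype (Sylow 2 G) := Fintype.ofFinite _
  have hBP := hB hyp P
  -- a second point
  obtain ⟨Q, hQP⟩ : ∃ Q : Sylow 2 G, Q ≠ P := by
    by_contra hcon
    push_neg at hcon
    apply hyp.nnorm P
    have hN : Subgroup.normalizer ((P : Subgroup G) : Set G) = ⊤ := by
      rw [eq_top_iff]
      intro g _
      exact Sylow.smul_eq_iff_mem_normalizer.mp (hcon (g • P))
    exact Subgroup.normalizer_eq_top_iff.mp hN
  have hPQ : P ≠ Q := Ne.symm hQP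
  have hI := hZ.inv P Q hPQ
  -- `Cz P` fixes `P`
  have hfixP : ∀ c ∈ Cz P, c • P = P := by
    intro c hc
    exact Sylow.smul_eq_iff_mem_normalizer.mpr
      (Subgroup.centralizer_le_normalizer _ hc)
  have hHa : Cz P ≤ MulAction.stabilizer G P := fun c hc => hfixP c hc
  -- regularity
  have hreg : ∀ y z : Sylow 2 G, y ≠ P → z ≠ P → ∃! u : ↥(Cz P), (u : G) • y = z := by
    intro y z hy hz
    obtain ⟨c, hc, h1, h2⟩ := hZ.reg P y z hy hz
    exact ⟨⟨c, hc⟩, h1, fun u hu => Subtype.ext (h2 u u.2 hu)⟩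
  -- non-identity elements of `Cz P` fix only `P`
  have hHfix : ∀ u ∈ Cz P, u ≠ 1 → ∀ c : Sylow 2 G, u • c = c → c = P := by
    intro u hu hu1 c hc
    by_contra hcP
    obtain ⟨c0, -, -, h2⟩ := hZ.reg P c c hcP hcP
    have e1 := h2 u hu hc
    have e2 := h2 1 (Cz P).one_mem (one_smul _ _)
    exact hu1 (e1.trans e2.symm)
  -- the cardinality of `Cz P`
  have hHcard : Nat.card ↥(Cz P) + 1 = Fintype.card (Sylow 2 G) := by
    have hne : ∀ c : ↥(Cz P), (c : G) • Q ≠ P := by
      intro c hcQ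
      have h1 : (c : G) • Q = (c : G) • P := by rw [hcQ, hfixP c c.2]
      exact hQP (smul_left_cancel _ h1)
    let f : ↥(Cz P) → {R : Sylow 2 G // R ≠ P} := fun c => ⟨(c : G) • Q, hne c⟩
    have hf : Function.Bijective f := by
      constructor
      · intro c c' hcc
        have hcc' : (c : G) • Q = (c' : G) • Q := congrArg Subtype.val hcc
        obtain ⟨c0, -, -, h2⟩ := hZ.reg P Q ((c' : G) • Q) hQP (hne c')
        exact Subtype.ext ((h2 c c.2 hcc').trans (h2 c' c'.2 rfl).symm)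
      · rintro ⟨R, hR⟩
        obtain ⟨c, hc, h1, -⟩ := hZ.reg P Q R hQP hR
        exact ⟨⟨c, hc⟩, Subtype.ext h1⟩
    have h1 : Nat.card ↥(Cz P) = Nat.card {R : Sylow 2 G // R ≠ P} :=
      Nat.card_congr (Equiv.ofBijective f hf)
    have h2 : Nat.card {R : Sylow 2 G // R ≠ P} = Fintype.card (Sylow 2 G) - 1 := by
      rw [Nat.card_eq_fintype_card, Fintype.card_subtype_compl, Fintype.card_subtype_eq]
    have h3 : 0 < Fintype.card (Sylow 2 G) := Fintype.card_pos_iff.mpr ⟨P⟩
    omega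
  -- the two-point stabilizer has odd order
  have hodd : Odd (Nat.card ↥(MulAction.stabilizer G P ⊓ MulAction.stabilizer G Q : Subgroup G)) := by
    by_contra hno
    have hev : 2 ∣ Nat.card ↥(Dz P Q) := (Nat.not_odd_iff_even.mp hno).two_dvd
    obtain ⟨d, hd⟩ := exists_prime_orderOf_dvd_card' (G := ↥(Dz P Q)) 2 hev
    have hd2 : orderOf (d : G) = 2 := by rw [Subgroup.orderOf_coe]; exact hd
    have hd1 : (d : G) ≠ 1 := by
      intro h1
      rw [h1, orderOf_one] at hd2
      omega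
    exact hI.odd d d.2 hd1 d hd2 rfl
  -- the Feit inequality
  have h3 : 0 < Fintype.card (Sylow 2 G) := Fintype.card_pos_iff.mpr ⟨P⟩
  have hfeit := Cfsg.Agent.S0885.result hZas hPQ (Fintype.card (Sylow 2 G) - 1)
    (Nat.card ↥(MulAction.stabilizer G P ⊓ MulAction.stabilizer G Q : Subgroup G))
    (by omega) rfl hodd (Cz P) hHa hHcard hHfix
  have hd : Fintype.card (Sylow 2 G) - 2 ≤
      2 * Nat.card ↥(MulAction.stabilizer G P ⊓ MulAction.stabilizer G Q : Subgroup G) := by
    rcases hfeit with h | ⟨-, ⟨u, v, huv⟩, -⟩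
    · omega
    · exact absurd (Subtype.ext (hBP.comm u u.2 v v.2)) huv
  -- normality in the stabilizer
  have hFn : ((Cz P).subgroupOf (MulAction.stabilizer G P)).Normal := by
    refine ⟨fun n hn g => ?_⟩
    rw [Subgroup.mem_subgroupOf] at hn ⊢
    have hg : (g : G) • P = P := g.2
    have hc := (hBP.conjC (g : G) ((g : G) * (n : G) * (g : G)⁻¹))
    rw [hg] at hc
    have : ((g * n * g⁻¹ : ↥(MulAction.stabilizer G P)) : G) = (g : G) * (n : G) * (g : G)⁻¹ := by
      simp
    rw [this]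
    apply hc.mpr
    have : (g : G)⁻¹ * ((g : G) * (n : G) * (g : G)⁻¹) * (g : G) = (n : G) := by group
    rw [this]
    exact hn
  obtain ⟨-, p, f, hp, hpow, -⟩ := Cfsg.Agent.S0738.result hZas hPQ hd (Cz P) hHa hFn hreg
  -- an involution of `P`
  have hthree := hBP.three
  have hpos : 0 < Nat.card {t : G // t ∈ (P : Subgroup G) ∧ orderOf t = 2} := by
    unfold mInv at hthree
    omega
  obtain ⟨⟨t, htP, ht2⟩⟩ := (Nat.card_pos_iff.mp hpos).1
  have htp : t ^ p = 1 := hpow t (hBP.le htP)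
  have h2p : 2 ∣ p := by
    rw [← ht2]
    exact orderOf_dvd_of_pow_eq_one htp
  have hp2 : p = 2 := ((Nat.prime_dvd_prime_iff_eq Nat.prime_two hp).mp h2p).symm
  rw [← hp2]
  exact hpow x hx

end Cfsg.Agent.Lib.Helper82.CAI
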