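import Mathlib
import Cfsg.Agent.Lib.Helper50.CAI.Defs
import Cfsg.Agent.S1230

/-!
# Project CAI (S2202), package [PSL]

If all odd parts `Bz P` equal a normal subgroup `B`, then `G ⧸ B` is `PSL₂` over a finite field
of characteristic 2 with at least 4 elements (by S1230).
-/

set_option autoImplicit false

namespace Cfsg.Agent.Lib.Helper82.CAI

open Cfsg.Agent.Lib.Helper50.CAI

universe u

theorem pkgPSL (hB : PkgBasic.{u}) (hQuot : PkgQuot.{u}) (hZ : PkgZ.{u}) (hZas : PkgZas.{u})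
    (hElem : PkgElem.{u}) : PkgPSL.{u} := by
  intro G _ _ hyp B _ hBz
  classical
  obtain ⟨hyp', -, -, h2, -⟩ := hQuot hyp B (fun P => (hBz P).ge)
  have hBz' : ∀ P' : Sylow 2 (G ⧸ B), Bz P' = ⊥ := by
    intro P'
    obtain ⟨P, hP⟩ := h2 P'
    rw [hP, hBz P, eq_bot_iff]
    rintro _ ⟨b, hb, rfl⟩
    rw [Subgroup.mem_bot]
    exact (QuotientGroup.eq_one_iff b).mpr hb
  have hbti : BTI (G ⧸ B) := by
    intro P' Q' _ x hx _
    rw [hBz' P'] at hx
    exact Subgroup.mem_bot.mp hx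
  have hZF := hZ hyp' hbti
  have hzas := hZas hyp' hbti hZF
  have helem := hElem hyp' hbti hZF hzas
  obtain ⟨T⟩ : Nonempty (Sylow 2 (G ⧸ B)) := inferInstance
  have hC : ∀ t : G ⧸ B, orderOf t = 2 →
      IsMulCommutative (Subgroup.centralizer ({t} : Set (G ⧸ B))) ∧
        ∀ c ∈ Subgroup.centralizer ({t} : Set (G ⧸ B)), c ^ 2 = 1 := by
    intro t ht
    have hpg : IsPGroup 2 (Subgroup.zpowers t) := by
      apply IsPGroup.of_card (n := 1)
      rw [Nat.card_zpowers, ht, pow_one]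
    obtain ⟨R, hR⟩ := hpg.exists_le_sylow
    have htR : t ∈ (R : Subgroup (G ⧸ B)) := hR (Subgroup.mem_zpowers t)
    have hBR := hB hyp' R
    have hcent := hBR.cent t htR ht
    constructor
    · refine ⟨⟨fun a b => Subtype.ext ?_⟩⟩
      have ha : (a : G ⧸ B) ∈ Cz R := hcent ▸ a.2
      have hb : (b : G ⧸ B) ∈ Cz R := hcent ▸ b.2
      exact hBR.comm a ha b hb
    · intro c hc
      exact helem R c (hcent ▸ hc)
  obtain ⟨F, iF, iFt, hcard, hiso⟩ :=
    Cfsg.Agent.S1230.result T (hyp'.ncyc T) (hyp'.nnorm T) hC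
  -- the order of `T`
  obtain ⟨k, hk⟩ := (IsPGroup.iff_card.mp T.isPGroup')
  have hk2 : 2 ≤ k := by
    by_contra hlt
    have hk01 : k = 0 ∨ k = 1 := by omega
    apply hyp'.ncyc T
    rcases hk01 with rfl | rfl
    · rw [pow_zero] at hk
      haveI : Subsingleton ↥(T : Subgroup (G ⧸ B)) := (Nat.card_eq_one_iff_unique.mp hk).1
      infer_instance
    · rw [pow_one] at hk
      haveI : Fact (Nat.Prime 2) := ⟨Nat.prime_two⟩
      exact isCyclic_of_prime_card hk
  have hcardF : Fintype.card F = 2 ^ k := by rw [hcard]; exact hk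
  refine ⟨F, iF, iFt, ?_, ?_, hiso⟩
  · -- characteristic 2
    obtain ⟨p, hp⟩ := CharP.exists F
    haveI := hp
    obtain ⟨n, hpp, hn⟩ := FiniteField.card F p
    have hdvd : p ∣ 2 ^ k := by
      rw [← hcardF, hn]
      exact dvd_pow_self p n.ne_zero
    have hp2 : p = 2 :=
      (Nat.prime_dvd_prime_iff_eq hpp Nat.prime_two).mp (hpp.dvd_of_dvd_pow hdvd)
    rw [← hp2]
    exact hp
  · rw [hcardF]
    calc 4 = 2 ^ 2 := by norm_num
      _ ≤ 2 ^ k := Nat.pow_le_pow_right (by norm_num) hk2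

end Cfsg.Agent.Lib.Helper82.CAI
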